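import Mathlib
import Cfsg.Agent.KZ.Defs

set_option autoImplicit false

namespace Cfsg.Agent.KZ

open Cfsg

namespace Chk

/-- All values below `n`. -/
def allb (f : ℕ → Bool) (n : ℕ) : Bool := Nat.rec true (fun k ih => f k && ih) n

/-- Some value below `n`, searched from the top. -/
def anyb (f : ℕ → Bool) (n : ℕ) : Bool := Nat.rec false (fun k ih => f k || ih) n

theorem allb_spec {f : ℕ → Bool} {n : ℕ} (h : allb f n = true) : ∀ k < n, f k = true := by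
  induction n with
  | zero => exact fun k hk => absurd hk (Nat.not_lt_zero k)
  | succ n ih =>
    have h' : f n = true ∧ allb f n = true := Bool.and_eq_true_iff.1 h
    exact fun k hk => (Nat.lt_succ_iff_lt_or_eq.1 hk).elim (ih h'.2 k) fun e => e ▸ h'.1

theorem anyb_spec {f : ℕ → Bool} {n : ℕ} (h : anyb f n = true) : ∃ k < n, f k = true := by
  induction n with
  | zero => exact absurd h Bool.false_ne_true
  | succ n ih =>
    rcases (Bool.or_eq_true_iff.1 h : f n = true ∨ anyb f n = true) with h' | h'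
    · exact ⟨n, n.lt_succ_self, h'⟩
    · obtain ⟨k, hk, e⟩ := ih h'
      exact ⟨k, hk.trans n.lt_succ_self, e⟩

/-- The absolute value of the least residue. -/
def nm (p x : ℕ) : ℕ := cond (Nat.ble (2 * (x % p)) p) (x % p) (p - x % p)

/-- The table of square roots of negatives. -/
def tab (p : ℕ) : ℕ := Nat.rec 0 (fun x ih => ih + x <<< (8 * ((p * p - x * x) % p))) (p / 2 + 1)

/-- An entry of the table. -/
def rt (T s : ℕ) : ℕ := T >>> (8 * s) % 256

/-- The inequality. -/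
def tst (p A B C t : ℕ) : Bool := Nat.ble (t ^ 2 + nm p (t * A) ^ 2 + nm p (t * B) ^ 2 + nm p (t * C) ^ 2) (p * t)

/-- The test for a triple. -/
def tri (p A B C : ℕ) : Bool :=
  cond (Nat.beq ((1 + A * A + B * B + C * C) % p) 0) (anyb (fun k => tst p A B C (k + 1)) (p / 2)) true

/-- The test for a prime. -/
def ck (p T : ℕ) : Bool := allb (fun x => Nat.beq (rt T ((p * p - x * x) % p)) x) (p / 2 + 1) &&
  allb (fun A => allb (fun B => tri p A B (rt T ((1 + A * A + B * B) % p))) (A + 1)) (p / 2 + 1)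

/-- The odd primes. -/
def L1 : List ℕ := [3, 5, 7, 11, 13, 17, 19, 23, 29, 31, 37, 41, 43, 47, 53, 59, 61, 67, 71, 73, 79, 83, 89, 97, 101,
  103, 107, 109, 113, 127, 131, 137, 139, 149, 151, 157, 163, 167]
/-- The odd primes. -/
def L2 : List ℕ := [173, 179, 181, 191, 193, 197, 199, 211]
/-- The odd primes. -/
def L3 : List ℕ := [223, 227, 229, 233, 239, 241]

theorem c1 : ∀ p ∈ L1, ck p (tab p) = true := by decide +kernel

theorem c2 : ∀ p ∈ L2, ck p (tab p) = true := by decide +kernel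

theorem c3 : ∀ p ∈ L3, ck p (tab p) = true := by decide +kernel

theorem all {p : ℕ} (hp : p.Prime) (h2 : p ≠ 2) (hB : p ≤ 242) : ck p (tab p) = true := by
  have : ∀ p < 243, ¬ p.Prime ∨ p = 2 ∨ p ∈ L1 ++ (L2 ++ L3) := by decide +kernel
  exact (List.mem_append.1 (((this p (by omega)).resolve_left (not_not.2 hp)).resolve_left h2)).elim (c1 p) fun h =>
    (List.mem_append.1 h).elim (c2 p) (c3 p)

theorem nat {p T A B C : ℕ} (h : ck p T = true) (hA : A ≤ p / 2) (hB : B ≤ A) (hC : C ≤ p / 2)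
    (d : p ∣ 1 + A * A + B * B + C * C) :
    ∃ t, 0 < t ∧ t ≤ p / 2 ∧ t ^ 2 + nm p (t * A) ^ 2 + nm p (t * B) ^ 2 + nm p (t * C) ^ 2 ≤ p * t := by
  obtain ⟨h1, h2⟩ := Bool.and_eq_true_iff.1 h
  have e1 := Nat.eq_of_beq_eq_true (allb_spec h1 C (Nat.lt_succ_of_le hC))
  have e2 := allb_spec (allb_spec h2 A (Nat.lt_succ_of_le hA)) B (Nat.lt_succ_of_le hB)
  have l : C * C ≤ p * p := Nat.mul_self_le_mul_self (hC.trans (Nat.div_le_self _ _))
  have e3 : 1 + A * A + B * B ≡ p * p - C * C [MOD p] := Nat.ModEq.add_right_cancel' (C * C) (by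
    rw [Nat.sub_add_cancel l]
    exact (Nat.modEq_zero_iff_dvd.2 d).trans (Nat.modEq_zero_iff_dvd.2 (dvd_mul_right p p)).symm)
  rw [show (1 + A * A + B * B) % p = _ from e3, e1, tri, Nat.mod_eq_zero_of_dvd d] at e2
  obtain ⟨k, hk, e⟩ := anyb_spec (e2 : anyb _ _ = true)
  exact ⟨k + 1, k.succ_pos, hk, Nat.le_of_ble_eq_true e⟩

theorem nm_spec {p : ℕ} (hp : 0 < p) (x : ℕ) : nm p x ≤ p / 2 ∧ ∃ ε : ℤ, ε ^ 2 = 1 ∧ (p : ℤ) ∣ ε * nm p x - x := by
  have l := Nat.mod_lt x hp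
  have e := Nat.div_add_mod x p
  unfold nm
  cases k : Nat.ble (2 * (x % p)) p
  · have := mt Nat.ble_eq_true_of_le (k ▸ Bool.false_ne_true : ¬ Nat.ble (2 * (x % p)) p = true)
    refine ⟨by simp only [cond_false]; omega, -1, by norm_num, -(x / p : ℕ) - 1, ?_⟩
    rw [cond_false, Nat.cast_sub l.le]
    generalize x / p = q at e
    generalize x % p = r at e
    rw [← e]
    push_cast
    ring
  · have := Nat.le_of_ble_eq_true k
    refine ⟨by simp only [cond_true]; omega, 1, by norm_num, -(x / p : ℕ), ?_⟩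
    rw [cond_true]
    generalize x / p = q at e
    generalize x % p = r at e
    rw [← e]
    push_cast
    ring

theorem red {p : ℕ} (hp : 0 < p) (a : ℤ) : ∃ A : ℕ, A ≤ p / 2 ∧ (p : ℤ) ∣ A * A - a ^ 2 ∧
    ∀ t : ℕ, ∃ x : ℤ, (p : ℤ) ∣ x - t * a ∧ x ^ 2 = nm p (t * A) ^ 2 := by
  obtain ⟨h1, ε, e, h2⟩ := nm_spec hp (a % p).toNat
  rw [Int.toNat_of_nonneg (Int.emod_nonneg _ (Int.natCast_ne_zero.2 hp.ne'))] at h2
  generalize nm p (a % p).toNat = A at h1 h2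
  have h3 : (p : ℤ) ∣ ε * A - a := by
    have := dvd_add h2 (Int.dvd_emod_sub_self (x := a) (m := p))
    rwa [show ε * A - a % p + (a % p - a) = ε * A - a by ring] at this
  refine ⟨A, h1, ?_, fun t => ?_⟩
  · rw [show A * A - a ^ 2 = (ε * A - a) * (ε * A + a) by linear_combination (-(A : ℤ) ^ 2) * e]
    exact h3.mul_right _
  · obtain ⟨-, δ, e', h4⟩ := nm_spec hp (t * A)
    refine ⟨ε * (δ * nm p (t * A)), ?_, by rw [mul_pow, mul_pow, e, e', one_mul, one_mul]⟩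
    rw [show ε * (δ * nm p (t * A)) - t * a = ε * (δ * nm p (t * A) - (t * A : ℕ)) + t * (ε * A - a) by
      push_cast; ring]
    exact dvd_add (h4.mul_left _) (h3.mul_left _)

end Chk

theorem chk {p : ℕ} (hp : p.Prime) (h2 : p ≠ 2) (hB : p ≤ 242) {a b c : ℤ} (h : (p : ℤ) ∣ 1 + a ^ 2 + b ^ 2 + c ^ 2) :
    ∃ t x y z : ℤ, 0 < t ∧ t < p ∧ (p : ℤ) ∣ x - t * a ∧ (p : ℤ) ∣ y - t * b ∧ (p : ℤ) ∣ z - t * c ∧
      t ^ 2 + x ^ 2 + y ^ 2 + z ^ 2 ≤ p * t := by
  obtain ⟨A, a1, a2, a3⟩ := Chk.red hp.pos a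
  obtain ⟨B, b1, b2, b3⟩ := Chk.red hp.pos b
  obtain ⟨C, c1, c2, c3⟩ := Chk.red hp.pos c
  have d : p ∣ 1 + A * A + B * B + C * C := Int.natCast_dvd_natCast.1 (by
    have := dvd_add (dvd_add (dvd_add h a2) b2) c2
    push_cast
    rwa [show 1 + a ^ 2 + b ^ 2 + c ^ 2 + (A * A - a ^ 2) + (B * B - b ^ 2) + (C * C - c ^ 2) =
      1 + (A : ℤ) * A + B * B + C * C by ring] at this)
  obtain ⟨t, t0, t1, e⟩ : ∃ t, 0 < t ∧ t ≤ p / 2 ∧
      t ^ 2 + Chk.nm p (t * A) ^ 2 + Chk.nm p (t * B) ^ 2 + Chk.nm p (t * C) ^ 2 ≤ p * t := by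
    rcases le_total B A with k | k
    · exact Chk.nat (Chk.all hp h2 hB) a1 k c1 d
    · obtain ⟨t, t0, t1, e⟩ := Chk.nat (Chk.all hp h2 hB) b1 k c1 (by rwa [add_right_comm 1])
      exact ⟨t, t0, t1, by rwa [add_right_comm (t ^ 2)]⟩
  obtain ⟨x, x1, x2⟩ := a3 t
  obtain ⟨y, y1, y2⟩ := b3 t
  obtain ⟨z, z1, z2⟩ := c3 t
  exact ⟨t, x, y, z, by omega, by omega, x1, y1, z1, by rw [x2, y2, z2]; exact_mod_cast e⟩

end Cfsg.Agent.KZ
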